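import Mathlib

/-!
# Dimensions of fixed spaces: involutions, chains, norm maps
-/

set_option autoImplicit false

namespace Cfsg.Agent.E83

open Module

variable {K V : Type*} [Field K] [AddCommGroup V] [Module K V]

/-- fixed vectors -/
def fx (f : End K V) : Submodule K V := LinearMap.ker (f - 1)

theorem mem_fx {f : End K V} {v : V} : v ∈ fx f ↔ f v = v := by
  simp [fx, sub_eq_zero]

theorem mem_fx_neg {f : End K V} {v : V} : v ∈ fx (-f) ↔ f v = -v := by
  rw [mem_fx, LinearMap.neg_apply, neg_eq_iff_eq_neg]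

/-- dimension of the fixed space inside `W` -/
noncomputable def fd (W : Submodule K V) (f : End K V) : ℕ := finrank K ↥(W ⊓ fx f)

/-- the rational trace -/
noncomputable def tau (W : Submodule K V) (f : End K V) : ℤ := fd W f - fd W (-f)

theorem tau_neg (W : Submodule K V) (f : End K V) : tau W (-f) = -tau W f := by
  simp [tau]

variable [FiniteDimensional K V]

theorem finrank_le_ker {U W : Submodule K V} (f : End K V) (h : ∀ v ∈ U, f v ∈ W) :
    finrank K U ≤ finrank K ↥(U ⊓ LinearMap.ker f) + finrank K W := by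
  have h1 := (f.domRestrict U).finrank_range_add_finrank_ker
  have h2 : finrank K ↥(LinearMap.range (f.domRestrict U)) ≤ finrank K W :=
    Submodule.finrank_mono (by rintro _ ⟨v, rfl⟩; exact h _ v.2)
  have h3 := Submodule.finrank_map_subtype_eq U (LinearMap.ker (f.domRestrict U))
  rw [LinearMap.ker_domRestrict, Submodule.map_comap_subtype, ← LinearMap.ker_domRestrict] at h3
  omega

theorem finrank_le_list {α : Type*} (l : List α) (f : α → End K V) (W : α → Submodule K V) {d : ℕ}
    (h : ∀ a ∈ l, (∀ v, f a v ∈ W a) ∧ finrank K (W a) = d) {U U' : Submodule K V}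
    (h' : ∀ v ∈ U, (∀ a ∈ l, f a v = 0) → v ∈ U') : finrank K U ≤ finrank K U' + l.length * d := by
  induction l generalizing U with
  | nil => simpa using Submodule.finrank_mono fun v hv => h' v hv (by simp)
  | cons a l ih =>
    have h1 := finrank_le_ker (U := U) (f a) fun v _ => (h a (by simp)).1 v
    have h2 := ih (fun b hb => h b (by simp [hb])) (U := U ⊓ LinearMap.ker (f a)) fun v hv hl =>
      h' v hv.1 (by simpa using ⟨hv.2, hl⟩)
    rw [(h a (by simp)).2] at h1
    rw [List.length_cons, Nat.succ_mul]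
    omega

theorem finrank_split (h2 : (2 : K) ≠ 0) {U : Submodule K V} {z : End K V} (hz : ∀ w ∈ U, z w ∈ U)
    (hzz : ∀ w ∈ U, z (z w) = w) : finrank K U = fd U z + fd U (-z) := by
  have h1 := Submodule.finrank_sup_add_finrank_inf_eq (U ⊓ fx z) (U ⊓ fx (-z))
  have h3 : (U ⊓ fx z) ⊓ (U ⊓ fx (-z)) = ⊥ := eq_bot_iff.2 fun v hv => by
    have := (mem_fx.1 hv.1.2).symm.trans (mem_fx_neg.1 hv.2.2)
    refine (smul_eq_zero.1 (show (2 : K) • v = 0 from ?_)).resolve_left h2
    rw [two_smul]; exact eq_neg_iff_add_eq_zero.1 this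
  have h4 : (U ⊓ fx z) ⊔ (U ⊓ fx (-z)) = U := le_antisymm (sup_le inf_le_left inf_le_left) fun v hv => by
    refine Submodule.mem_sup.2 ⟨(2 : K)⁻¹ • (v + z v), Submodule.smul_mem _ _
      ⟨U.add_mem hv (hz v hv), mem_fx.2 ?_⟩, (2 : K)⁻¹ • (v - z v), Submodule.smul_mem _ _
      ⟨U.sub_mem hv (hz v hv), mem_fx_neg.2 ?_⟩, ?_⟩
    · rw [map_add, hzz v hv, add_comm]
    · rw [map_sub, hzz v hv, neg_sub]
    · rw [← smul_add, add_add_sub_cancel, ← two_smul K, inv_smul_smul₀ h2]
  rw [h3, h4, finrank_bot] at h1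
  exact h1

theorem fd_split (h2 : (2 : K) ≠ 0) {W : Submodule K V} {z h : End K V} (hz : ∀ w ∈ W, z w ∈ W)
    (hzz : ∀ w ∈ W, z (z w) = w) (hc : ∀ w ∈ W, h (z w) = z (h w)) :
    fd W h = fd (W ⊓ fx z) h + fd (W ⊓ fx (-z)) h := by
  rw [fd, finrank_split h2 (U := W ⊓ fx h) (z := z) (fun w hw => ⟨hz w hw.1, mem_fx.2 (by rw [hc w hw.1, mem_fx.1 hw.2])⟩)
    fun w hw => hzz w hw.1, fd, fd, fd, fd, inf_right_comm, inf_right_comm W (fx h)]

theorem tau_step (h2 : (2 : K) ≠ 0) {W : Submodule K V} {z h : End K V} (hz : ∀ w ∈ W, z w ∈ W)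
    (hzz : ∀ w ∈ W, z (z w) = w) (hc : ∀ w ∈ W, h (z w) = z (h w)) :
    tau W h + tau W (h * z) = 2 * tau (W ⊓ fx z) h := by
  have a : ∀ h : End K V, fd (W ⊓ fx z) (h * z) = fd (W ⊓ fx z) h := fun h => by
    unfold fd; congr 2
    all_goals
      ext v
      simp only [Submodule.mem_inf, mem_fx, End.mul_apply]
      exact and_congr_right fun e => by rw [e.2]
  have b : ∀ h : End K V, fd (W ⊓ fx (-z)) (h * z) = fd (W ⊓ fx (-z)) (-h) := fun h => by
    unfold fd; congr 2
    all_goals
      ext v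
      simp only [Submodule.mem_inf, mem_fx_neg]
      simp only [mem_fx, End.mul_apply]
      exact and_congr_right fun e => by rw [e.2, map_neg, neg_eq_iff_eq_neg]
  have c1 := fd_split h2 hz hzz hc
  have c2 := fd_split h2 hz hzz (h := -h) fun w hw => by simp [hc w hw]
  have c3 := fd_split h2 hz hzz (h := h * z) fun w hw => by
    simp only [End.mul_apply]; rw [hc _ (hz w hw)]
  have c4 := fd_split h2 hz hzz (h := -h * z) fun w hw => by
    simp only [End.mul_apply, LinearMap.neg_apply, map_neg]; rw [hc _ (hz w hw)]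
  rw [a, b] at c3 c4
  simp only [tau, ← neg_mul, neg_neg] at *
  omega

theorem tau_one (h2 : (2 : K) ≠ 0) (W : Submodule K V) : tau W 1 = finrank K W := by
  have h1 := finrank_split h2 (U := W) (z := 1) (fun _ h => h) fun _ _ => rfl
  have h3 : fd W 1 = finrank K W := by rw [fd, show fx (1 : End K V) = ⊤ by simp [fx], inf_top_eq]
  rw [tau]; omega

theorem fd_le_of_conj {g x r : End K V} (hg : IsUnit g) (h : g * x = r * g) : fd ⊤ x ≤ fd ⊤ r := by
  have h1 := finrank_le_ker (U := ⊤ ⊓ fx x) (W := ⊤ ⊓ fx r) g fun v hv =>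
    ⟨trivial, mem_fx.2 (by rw [← End.mul_apply, ← h, End.mul_apply, mem_fx.1 hv.2])⟩
  rwa [(LinearMap.isUnit_iff_ker_eq_bot g).1 hg, inf_bot_eq, finrank_bot, zero_add] at h1

theorem fd_conj {g x r : End K V} (hg : IsUnit g) (h : g * x = r * g) : fd ⊤ x = fd ⊤ r := by
  obtain ⟨g, rfl⟩ := hg
  refine le_antisymm (fd_le_of_conj g.isUnit h) (fd_le_of_conj g⁻¹.isUnit ?_)
  rw [Units.inv_mul_eq_iff_eq_mul, ← mul_assoc, h, Units.mul_inv_cancel_right]

theorem tau_conj {g x r : End K V} (hg : IsUnit g) (h : g * x = r * g) : tau ⊤ x = tau ⊤ r := by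
  rw [tau, tau, fd_conj hg h, fd_conj hg (x := -x) (r := -r) (by simp [h])]

/-- an involution inverting `h` -/
theorem tau_le_of_inv {w h h' : End K V} (e1 : h * h' = 1) (e2 : h * w = w * h') (e3 : h' * w = w * h) :
    tau ⊤ w ≤ fd ⊤ (h * h) := by
  have h1 := finrank_le_ker (U := ⊤ ⊓ fx w) (W := ⊤ ⊓ fx (-w)) (h - h') fun v hv =>
    ⟨trivial, mem_fx_neg.2 (by
      rw [LinearMap.sub_apply, map_sub, ← End.mul_apply, ← End.mul_apply, ← e2, ← e3, End.mul_apply,
        End.mul_apply, mem_fx.1 hv.2, neg_sub])⟩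
  have h2 : finrank K ↥((⊤ ⊓ fx w) ⊓ LinearMap.ker (h - h')) ≤ fd ⊤ (h * h) :=
    Submodule.finrank_mono fun v hv => ⟨trivial, mem_fx.2 (by
      have : h v = h' v := by simpa [sub_eq_zero] using hv.2
      rw [End.mul_apply, this, ← End.mul_apply, e1, End.one_apply])⟩
  rw [tau]; unfold fd at *; omega

/-- an element of order three in characteristic three -/
theorem finrank_le_three [CharP K 3] {W : Submodule K V} {z : End K V} (hz : ∀ w ∈ W, z w ∈ W)
    (h3 : z * z * z = 1) : finrank K W ≤ 3 * fd W z := by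
  have e : (z - 1) * ((z - 1) * (z - 1)) = 0 := by
    have h : (3 : End K V) = 0 := by
      rw [← map_ofNat (algebraMap K (End K V)) 3, show (3 : K) = 0 from CharP.cast_eq_zero K 3, map_zero]
    rw [show (z - 1) * ((z - 1) * (z - 1)) = z * z * z - 1 - 3 * (z * z - z) by noncomm_ring, h3, h]
    simp
  have hf : ∀ w ∈ W, (z - 1) w ∈ W := fun w hw => W.sub_mem (hz w hw) hw
  have h1 := finrank_le_ker (U := W) (W := W ⊓ LinearMap.ker ((z - 1) * (z - 1))) (z - 1) fun v hv =>
    ⟨hf v hv, by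
      rw [SetLike.mem_coe, LinearMap.mem_ker, ← End.mul_apply, mul_assoc, e, LinearMap.zero_apply]⟩
  have h2 := finrank_le_ker (U := W ⊓ LinearMap.ker ((z - 1) * (z - 1))) (W := W ⊓ fx z) (z - 1)
    fun v hv => ⟨hf v hv.1, LinearMap.mem_ker.2 (LinearMap.mem_ker.1 hv.2)⟩
  have h4 : finrank K ↥((W ⊓ LinearMap.ker ((z - 1) * (z - 1))) ⊓ LinearMap.ker (z - 1)) ≤ fd W z :=
    Submodule.finrank_mono fun v hv => ⟨hv.1.1, hv.2⟩
  unfold fd fx at *; omega

/-! ### Chains -/

/-- common fixed space -/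
def fixL : List (End K V) → Submodule K V
  | [] => ⊤
  | g :: l => fixL l ⊓ fx g

/-- sum of the rational traces over a coset -/
noncomputable def sumL : List (End K V) → End K V → ℤ
  | [], h => tau ⊤ h
  | g :: l, h => sumL l h + sumL l (h * g)

/-- the norm map -/
def nrmL : List (End K V) → End K V
  | [] => 1
  | g :: l => nrmL l + g * nrmL l

/-- a central chain of involutions -/
def Chain (Q : Set (End K V)) : List (End K V) → Prop
  | [] => True
  | g :: l => g ∈ Q ∧ (∀ w ∈ fixL l, g (g w) = w) ∧ (∀ p ∈ Q, ∀ w ∈ fixL l, p (g w) = g (p w)) ∧ Chain Q l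

omit [FiniteDimensional K V] in
theorem Chain.inv {Q : Set (End K V)} {l : List (End K V)} (h : Chain Q l) :
    ∀ p ∈ Submonoid.closure Q, ∀ w ∈ fixL l, p w ∈ fixL l := by
  have : ∀ p ∈ Q, ∀ w ∈ fixL l, p w ∈ fixL l := by
    induction l with
    | nil => exact fun _ _ _ _ => trivial
    | cons g l ih => exact fun p hp w hw =>
        ⟨ih h.2.2.2 p hp w hw.1, mem_fx.2 (by rw [← h.2.2.1 p hp w hw.1, mem_fx.1 hw.2])⟩
  intro p hp
  induction hp using Submonoid.closure_induction with
  | mem p hp => exact this p hp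
  | one => exact fun _ h => h
  | mul p q _ _ a b => exact fun w hw => a _ (b w hw)

theorem Chain.sum (h2 : (2 : K) ≠ 0) {Q : Set (End K V)} {l : List (End K V)} (h : Chain Q l) :
    ∀ p ∈ Submonoid.closure Q, sumL l p = 2 ^ l.length * tau (fixL l) p := by
  induction l with
  | nil => exact fun p _ => (one_mul _).symm
  | cons g l ih =>
    intro p hp
    have hg := Submonoid.subset_closure h.1
    rw [sumL, ih h.2.2.2 p hp, ih h.2.2.2 _ (mul_mem hp hg), ← mul_add,
      tau_step h2 (h.2.2.2.inv g hg) h.2.1, List.length_cons, pow_succ, mul_assoc, fixL]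
    clear ih
    induction hp using Submonoid.closure_induction with
    | mem p hp => exact h.2.2.1 p hp
    | one => exact fun _ _ => rfl
    | mul p q _ hq a b =>
      intro w hw
      rw [End.mul_apply, End.mul_apply, b w hw, a _ (h.2.2.2.inv q hq w hw)]

omit [FiniteDimensional K V] in
theorem Chain.nrm {Q : Set (End K V)} {l : List (End K V)} (h : Chain Q l) (v : V) : nrmL l v ∈ fixL l := by
  induction l with
  | nil => trivial
  | cons g l ih =>
    have h1 := ih h.2.2.2
    have h3 := h.2.2.2.inv g (Submonoid.subset_closure h.1) _ h1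
    refine ⟨add_mem h1 h3, mem_fx.2 ?_⟩
    rw [nrmL, LinearMap.add_apply, End.mul_apply, map_add, h.2.1 _ h1, add_comm]

end Cfsg.Agent.E83
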