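import Mathlib
import Cfsg.Agent.E83.Lin
import Cfsg.Agent.Spor.Comp.Basic

/-!
# Coded group elements with signs; checks for chains, classes and double coset certificates
-/

set_option autoImplicit false
set_option linter.unusedSectionVars false

namespace Cfsg.Agent.E83

open Module Cfsg.Agent.Spor

/-- evaluation of a list -/
noncomputable def fL (l : List ℕ) : (List ℕ → Bool) → Bool :=
  List.rec (fun k => k []) (fun a _ ih k => force a fun b => ih fun t => k (b :: t)) l

theorem fL_eq (l : List ℕ) (k : List ℕ → Bool) : fL l k = k l := by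
  induction l generalizing k with
  | nil => rfl
  | cons a l ih => exact ih _

/-- some member satisfies `f` -/
noncomputable def anyL (l : List ℕ) (f : ℕ → Bool) : Bool :=
  List.rec false (fun x _ ih => Bool.rec ih true (f x)) l

theorem anyL_iff (l : List ℕ) (f : ℕ → Bool) : anyL l f = true ↔ ∃ x ∈ l, f x = true := by
  induction l with
  | nil => simp [anyL]
  | cons x l ih =>
    have h : anyL (x :: l) f = Bool.rec (anyL l f) true (f x) := rfl
    rw [h]
    cases hf : f x <;> simp [hf, ih]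

/-- number of occurrences -/
noncomputable def cnt (a : ℕ) (l : List ℕ) : ℕ :=
  List.rec 0 (fun x _ ih => Bool.rec ih (Nat.succ ih) (Nat.beq x a)) l

theorem cnt_eq (a : ℕ) (l : List ℕ) : cnt a l = l.count a := by
  induction l with
  | nil => rfl
  | cons x l ih =>
    have h : cnt a (x :: l) = Bool.rec (cnt a l) (cnt a l + 1) (Nat.beq x a) := rfl
    rw [h, ih, List.count_cons]
    cases hf : Nat.beq x a
    · simp [Nat.ne_of_beq_eq_false hf]
    · simp [Nat.eq_of_beq_eq_true hf]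

theorem sum_signed {A : Type*} [AddCommGroup A] (f : ℕ → A) {m : ℕ} {l : List ℕ} (h : ∀ c ∈ l, c < 2 * m) :
    (l.map fun c => (-1 : ℤ) ^ c • f (c / 2)).sum =
      ∑ c ∈ Finset.range m, ((cnt (2 * c) l : ℤ) - cnt (2 * c + 1) l) • f c := by
  simp only [cnt_eq]
  induction l with
  | nil => simp
  | cons a l ih =>
    have ha := h a (by simp)
    rw [List.map_cons, List.sum_cons, ih fun c hc => h c (by simp [hc]),
      ← Finset.sum_ite_eq_of_mem (Finset.range m) (a / 2) (fun c => (-1 : ℤ) ^ a • f c)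
        (Finset.mem_range.2 (by omega)), ← Finset.sum_add_distrib]
    refine Finset.sum_congr rfl fun c _ => ?_
    simp only [List.count_cons, beq_iff_eq]
    rcases Nat.even_or_odd' a with ⟨k, rfl | rfl⟩
    · rw [pow_mul]
      split_ifs <;> first | omega | (push_cast; module)
    · rw [pow_succ, pow_mul]
      split_ifs <;> first | omega | (push_cast; module)

variable (mu : ℕ → ℕ → ℕ) (ok : ℕ → Bool) (e : ℕ)

/-- all ordered products -/
noncomputable def span (L : List ℕ) : List ℕ := List.rec [e] (fun a _ ih => ih ++ ih.map (mu a)) L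

/-- strict evaluation of `span` -/
noncomputable def spanF (L : List ℕ) : (List ℕ → Bool) → Bool :=
  List.rec (fun k => k [e]) (fun a _ ih k => ih fun S => fL (S ++ S.map (mu a)) k) L

theorem spanF_eq (L : List ℕ) (k : List ℕ → Bool) : spanF mu e L k = k (span mu e L) := by
  induction L generalizing k with
  | nil => rfl
  | cons a L ih => exact (ih _).trans (fL_eq _ _)

/-- powers -/
noncomputable def pw (c m : ℕ) : ℕ := Nat.rec e (fun _ ih => mu c ih) m

/-- the first powers -/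
noncomputable def pows (c m : ℕ) : List ℕ := (List.range m).map (pw mu e c)

/-- the check of a chain -/
noncomputable def chainOK (Q L : List ℕ) : Bool :=
  List.rec true (fun a L' ih => spanF mu e L' fun S =>
    band (anyL Q (Nat.beq a)) (band (force (mu a a) fun b => anyL S (Nat.beq b))
      (band (allL Q fun p => force (mu a p) fun ap => force (mu p a) fun pa =>
        anyL S fun k => Nat.beq (mu ap k) pa) ih))) L

/-- `p` normalises the span -/
noncomputable def normOK (L : List ℕ) (p : ℕ) : Bool :=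
  spanF mu e L fun S => allL L fun g => force (mu g p) fun gp => anyL S fun k => Nat.beq (mu p k) gp

/-- the check of the class labels -/
noncomputable def labsOK (reps : List ℕ) (labs : List (ℕ × ℕ × ℕ)) : Bool :=
  band (allL reps ok) (allL labs fun t => band (ok t.2.2)
    (Nat.beq (mu t.2.2 (Nat.mul 2 t.1)) (mu (reps.getD t.2.1 e) t.2.2)))

/-- the label of a code -/
noncomputable def look (labs : List (ℕ × ℕ × ℕ)) (m x : ℕ) : ℕ :=
  force (Nat.div x 2) fun y => List.rec m (fun t _ ih => Bool.rec ih t.2.1 (Nat.beq t.1 y)) labs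

/-- the check of the class distribution of a span -/
noncomputable def dimOK (labs : List (ℕ × ℕ × ℕ)) (m : ℕ) (L ps ns : List ℕ) : Bool :=
  band (allL L ok) <| band (chainOK mu e L L) <| spanF mu e L fun S =>
    fL (S.map fun x => Nat.add (Nat.mul 2 (look labs m x)) (Nat.mod x 2)) fun l =>
      band (allL l fun c => blt c (Nat.mul 2 m)) (allLt m fun c =>
        band (Nat.beq (cnt (Nat.mul 2 c) l) (ps.getD c 0)) (Nat.beq (cnt (Nat.succ (Nat.mul 2 c)) l) (ns.getD c 0)))

/-- the signed point of a term -/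
noncomputable def trm (Pl T H : List ℕ) (N y cs : ℕ) : ℕ :=
  force y fun y => force (Nat.mod (Nat.div cs 256) 256) fun p =>
    force (mu (mu (Pl.getD (Nat.mod cs 256) e) (T.getD p e)) (H.getD (Nat.mod (Nat.div cs 65536) 256) e)) fun z =>
      Bool.rec (Nat.mul 2 N) (Nat.add (Nat.mul 2 p) (Nat.mod (Nat.add y z) 2)) (Nat.beq (Nat.div y 2) (Nat.div z 2))

/-- the signed points of a relation -/
noncomputable def relL (Pl T H : List ℕ) (N g g' : ℕ) (F : List ℕ) : ℕ → List ℕ :=
  List.rec (fun _ => []) (fun t _ ih cs =>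
    trm mu e Pl T H N (mu (mu g t) g') cs :: force (Nat.div cs 16777216) ih) F

/-- the signed points of all relations -/
noncomputable def blkF (Pl T H : List ℕ) (N : ℕ) (B : List (List ℕ × List (ℕ × ℕ × ℕ))) :
    (List ℕ → Bool) → Bool :=
  List.rec (fun k => k []) (fun b _ ih k => fL b.1 fun F =>
    fL (b.2.flatMap fun r => relL mu e Pl T H N r.1 r.2.1 F r.2.2) fun l₁ => ih fun l₂ => k (l₁ ++ l₂)) B

theorem blkF_eq (Pl T H : List ℕ) (N : ℕ) (B : List (List ℕ × List (ℕ × ℕ × ℕ))) (k : List ℕ → Bool) :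
    blkF mu e Pl T H N B k =
      k (B.flatMap fun b => b.2.flatMap fun r => relL mu e Pl T H N r.1 r.2.1 b.1 r.2.2) := by
  induction B generalizing k with
  | nil => rfl
  | cons b B ih => exact (fL_eq _ _).trans ((fL_eq _ _).trans (ih _))

/-- the check of a certificate -/
noncomputable def certOK (Pl T H : List ℕ) (N : ℕ) (B : List (List ℕ × List (ℕ × ℕ × ℕ))) : Bool :=
  band (allL T ok) <| band (allL B fun b => allL b.2 fun r => band (ok r.1) (ok r.2.1)) <|
    fL Pl fun Pl => fL H fun H => blkF mu e Pl T H N B fun l => fL l fun l =>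
      band (allL l fun c => blt c (Nat.mul 2 N)) (allLt N fun c =>
        Nat.beq (Nat.mod (cnt (Nat.mul 2 c) l) 3) (Nat.mod (cnt (Nat.succ (Nat.mul 2 c)) l) 3))

/-- A coding of elements of `G` with signs. -/
structure Mdl (G : Type*) [Group G] where
  Ok : ℕ → Prop
  gx : ℕ → G
  ok_e : Ok e
  gx_e : gx e = 1
  par_e : e % 2 = 0
  ok_mu : ∀ {a b}, Ok a → Ok b → Ok (mu a b)
  gx_mu : ∀ {a b}, Ok a → Ok b → gx (mu a b) = gx a * gx b
  par_mu : ∀ a b, mu a b % 2 = (a + b) % 2
  half : ∀ {a b}, a / 2 = b / 2 → (Ok a → Ok b) ∧ gx a = gx b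
  ok_ok : ∀ {a}, ok a = true → Ok a
  comm : ∀ {a b}, Ok a → Ok b → gx a = 1 → mu a b = mu b a

namespace Mdl

variable {mu ok e} {G K V : Type*} [Group G] [Field K] [AddCommGroup V] [Module K V]
  [FiniteDimensional K V] (M : Mdl mu ok e G) (ρ : G →* End K V)

/-- the operator of a code -/
def op (a : ℕ) : End K V := (-1 : ℤ) ^ a • ρ (M.gx a)

/-- the operator of a formal sum -/
def nrm (F : List ℕ) : End K V := (F.map (M.op ρ)).sum

/-- common fixed space -/
def fix (L : List ℕ) : Submodule K V := fixL (L.map (M.op ρ))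

/-- the rational trace of a code -/
noncomputable def tr (a : ℕ) : ℤ := tau ⊤ (ρ (M.gx a))

variable {M ρ}

theorem neg_pow_congr {a b : ℕ} (h : a % 2 = b % 2) : (-1 : ℤ) ^ a = (-1) ^ b := by
  rw [neg_one_pow_eq_pow_mod_two, h, ← neg_one_pow_eq_pow_mod_two]

theorem op_even {a : ℕ} (h : a % 2 = 0) : M.op ρ a = ρ (M.gx a) := by
  rw [op, neg_pow_congr (b := 0) h, pow_zero, one_smul]

theorem op_e : M.op ρ e = 1 := by rw [op_even M.par_e, M.gx_e, map_one]

theorem op_mu {a b : ℕ} (ha : M.Ok a) (hb : M.Ok b) : M.op ρ (mu a b) = M.op ρ a * M.op ρ b := by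
  rw [op, op, op, M.gx_mu ha hb, map_mul, neg_pow_congr (M.par_mu a b), pow_add, smul_mul_smul_comm]

theorem op_half {a b : ℕ} (h : a / 2 = b / 2) : M.op ρ a = (-1 : ℤ) ^ (a + b) • M.op ρ b := by
  rw [op, op, (M.half h).2, smul_smul, ← pow_add, neg_pow_congr (a := a + b + b) (b := a) (by omega)]

theorem tau_op (a : ℕ) : tau ⊤ (M.op ρ a) = (-1 : ℤ) ^ a • M.tr ρ a := by
  rw [op, tr]
  rcases neg_one_pow_eq_or ℤ a with h | h <;> simp [h, tau_neg]

theorem ok_getD {L : List ℕ} (h : ∀ a ∈ L, M.Ok a) (i : ℕ) : M.Ok (L.getD i e) := by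
  rw [List.getD_eq_getElem?_getD]
  cases h' : L[i]? with
  | none => exact M.ok_e
  | some a => exact h a (List.mem_of_getElem? h')

theorem pw_spec {c : ℕ} (h : M.Ok c) (m : ℕ) :
    M.Ok (pw mu e c m) ∧ M.gx (pw mu e c m) = M.gx c ^ m ∧ M.op ρ (pw mu e c m) = M.op ρ c ^ m := by
  induction m with
  | zero => exact ⟨M.ok_e, M.gx_e.trans (pow_zero _).symm, op_e.trans (pow_zero _).symm⟩
  | succ m ih =>
    rw [show pw mu e c (m + 1) = mu c (pw mu e c m) from rfl]
    exact ⟨M.ok_mu h ih.1, by rw [M.gx_mu h ih.1, pow_succ', ← ih.2.1],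
      by rw [op_mu h ih.1, pow_succ', ← ih.2.2]⟩

theorem ok_pows {c : ℕ} (h : M.Ok c) (m : ℕ) : ∀ a ∈ pows mu e c m, M.Ok a ∧ ∃ i, M.op ρ a = M.op ρ c ^ i :=
  fun a ha => by
    obtain ⟨i, -, rfl⟩ := List.mem_map.1 ha
    exact ⟨(pw_spec (ρ := ρ) h i).1, i, (pw_spec h i).2.2⟩

theorem nrm_pows {c : ℕ} (h : M.Ok c) (m : ℕ) :
    M.nrm ρ (pows mu e c m) = ∑ i ∈ Finset.range m, M.op ρ c ^ i := by
  rw [nrm, pows, List.map_map, Finset.sum_range, ← List.sum_ofFn, List.ofFn_eq_map, ← List.map_coe_finRange_eq_range,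
    List.map_map]
  exact congrArg _ (List.map_congr_left fun i _ => (pw_spec h i).2.2)

theorem pows_absorb {c m : ℕ} (h : M.Ok c) (hm : pw mu e c m = e) :
    (∀ a ∈ pows mu e c m, M.Ok a ∧ M.nrm ρ (pows mu e c m) * M.op ρ a = M.nrm ρ (pows mu e c m)) ∧
      ∀ v, M.nrm ρ (pows mu e c m) v ∈ fx (M.op ρ c) := by
  have h1 : M.op ρ c ^ m = 1 := by rw [← (pw_spec h m).2.2, hm, op_e]
  have h2 := geom_sum_mul (M.op ρ c) m
  have h3 := mul_geom_sum (M.op ρ c) m
  rw [h1, sub_self, ← nrm_pows h] at h2 h3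
  refine ⟨fun a ha => ?_, fun v => LinearMap.mem_ker.2 (by rw [← End.mul_apply, h3]; rfl)⟩
  obtain ⟨h4, i, hi⟩ := ok_pows (ρ := ρ) h m a ha
  refine ⟨h4, ?_⟩
  rw [hi]; clear hi
  induction i with
  | zero => simp
  | succ i ih => rw [pow_succ, ← mul_assoc, ih, ← sub_eq_zero, ← h2, mul_sub, mul_one]

theorem pows_fix {c : ℕ} (h : M.Ok c) (m : ℕ) {v : V} (hv : v ∈ fx (M.op ρ c)) :
    (∀ a ∈ pows mu e c m, M.Ok a ∧ M.op ρ a v = v) ∧ M.nrm ρ (pows mu e c m) v = (m : K) • v := by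
  have h1 : ∀ i, (M.op ρ c ^ i) v = v := fun i => by
    induction i with
    | zero => rfl
    | succ i ih => rw [pow_succ, End.mul_apply, mem_fx.1 hv, ih]
  refine ⟨fun a ha => ?_, by simp [nrm_pows h, h1, Nat.cast_smul_eq_nsmul]⟩
  obtain ⟨h4, i, hi⟩ := ok_pows (ρ := ρ) h m a ha
  exact ⟨h4, hi ▸ h1 i⟩

theorem span_spec {L : List ℕ} (h : ∀ a ∈ L, M.Ok a) :
    (∀ k ∈ span mu e L, M.Ok k ∧ ∀ w ∈ M.fix ρ L, M.op ρ k w = w) ∧
    M.nrm ρ (span mu e L) = nrmL (L.map (M.op ρ)) ∧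
    ∀ f, sumL (L.map (M.op ρ)) f = ((span mu e L).map fun x => tau ⊤ (f * M.op ρ x)).sum := by
  induction L with
  | nil => exact ⟨by simp [span, M.ok_e, op_e], by simp [span, nrm, op_e, nrmL], by simp [span, op_e, sumL]⟩
  | cons a L ih =>
    obtain ⟨h1, h2, h3⟩ := ih fun b hb => h b (by simp [hb])
    have ha := h a (by simp)
    have h4 : ∀ x ∈ span mu e L, M.op ρ (mu a x) = M.op ρ a * M.op ρ x := fun x hx => op_mu ha (h1 x hx).1
    rw [show span mu e (a :: L) = span mu e L ++ (span mu e L).map (mu a) from rfl]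
    refine ⟨fun k hk => ?_, ?_, fun f => ?_⟩
    · rcases List.mem_append.1 hk with hk | hk
      · exact ⟨(h1 k hk).1, fun w hw => (h1 k hk).2 w hw.1⟩
      · obtain ⟨x, hx, rfl⟩ := List.mem_map.1 hk
        exact ⟨M.ok_mu ha (h1 x hx).1, fun w hw => by
          rw [h4 x hx, End.mul_apply, (h1 x hx).2 w hw.1, mem_fx.1 hw.2]⟩
    · rw [List.map_cons, nrmL, ← h2, nrm, nrm, List.map_append, List.sum_append, List.map_map,
        ← List.sum_map_mul_left]
      exact congrArg _ (congrArg _ (List.map_congr_left h4))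
    · rw [List.map_cons, sumL, h3, h3, List.map_append, List.sum_append, List.map_map]
      exact congrArg _ (congrArg _ (List.map_congr_left fun x hx => by simp [h4 x hx, mul_assoc]))

theorem chain_of {Q L : List ℕ} (hQ : ∀ a ∈ Q, M.Ok a) (hL : ∀ a ∈ L, M.Ok a) (h : chainOK mu e Q L = true) :
    Chain (M.op ρ '' {a | a ∈ Q}) (L.map (M.op ρ)) := by
  induction L with
  | nil => trivial
  | cons a L ih =>
    have hL' : ∀ b ∈ L, M.Ok b := fun b hb => hL b (by simp [hb])
    have ha := hL a (by simp)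
    have h1 := (span_spec (ρ := ρ) hL').1
    change spanF mu e L (fun S => band _ (band _ (band _ (chainOK mu e Q L)))) = true at h
    simp only [spanF_eq, band_iff, force_eq, anyL_iff, allL_iff, nbeq_iff, exists_eq_right'] at h
    refine ⟨⟨a, h.1, rfl⟩, fun w hw => ?_, ?_, ih hL' h.2.2.2⟩
    · rw [← End.mul_apply, ← op_mu ha ha, (h1 _ h.2.1).2 w hw]
    · rintro _ ⟨p, hp, rfl⟩ w hw
      obtain ⟨k, hk, e1⟩ := h.2.2.1 p hp
      rw [← End.mul_apply, ← op_mu (hQ p hp) ha, ← e1, op_mu (M.ok_mu ha (hQ p hp)) (h1 k hk).1,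
        End.mul_apply, (h1 k hk).2 w hw, op_mu ha (hQ p hp), End.mul_apply]

theorem mem_fix {L : List ℕ} {v : V} : v ∈ M.fix ρ L ↔ ∀ a ∈ L, M.op ρ a v = v := by
  induction L with
  | nil => simp [fix, fixL]
  | cons a L ih =>
    change v ∈ M.fix ρ L ⊓ fx (M.op ρ a) ↔ _
    rw [Submodule.mem_inf, ih, mem_fx, List.forall_mem_cons, and_comm]

theorem norm_of {L : List ℕ} (hL : ∀ a ∈ L, M.Ok a) {p : ℕ} (hp : M.Ok p) (h : normOK mu e L p = true) :
    ∀ w ∈ M.fix ρ L, M.op ρ p w ∈ M.fix ρ L := fun w hw => mem_fix.2 fun g hg => by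
  simp only [normOK, spanF_eq, force_eq, anyL_iff, allL_iff, nbeq_iff] at h
  obtain ⟨k, hk, e1⟩ := h g hg
  have h1 := (span_spec (ρ := ρ) hL).1 k hk
  rw [← End.mul_apply, ← op_mu (hL g hg) hp, ← e1, op_mu hp h1.1, End.mul_apply, h1.2 w hw]

theorem tr_look {reps : List ℕ} {labs : List (ℕ × ℕ × ℕ)} (h : labsOK mu ok e reps labs = true) {m x : ℕ}
    (hx : M.Ok x) (hm : look labs m x < m) : M.tr ρ x = M.tr ρ (reps.getD (look labs m x) e) := by
  simp only [labsOK, band_iff, allL_iff, nbeq_iff] at h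
  obtain ⟨t, ht, e1, e2⟩ : ∃ t ∈ labs, t.1 = x / 2 ∧ look labs m x = t.2.1 := by
    clear h
    induction labs with
    | nil => exact absurd hm (lt_irrefl _)
    | cons t l ih =>
      have e1 : look (t :: l) m x = Bool.rec (look l m x) t.2.1 (Nat.beq t.1 (x / 2)) := rfl
      rw [e1] at hm ⊢
      cases e2 : Nat.beq t.1 (x / 2)
      · rw [e2] at hm
        obtain ⟨s, a, b⟩ := ih hm
        exact ⟨s, by simp [a], b⟩
      · exact ⟨t, by simp, Nat.eq_of_beq_eq_true e2, rfl⟩
  have h1 := M.half (a := x) (b := Nat.mul 2 t.1) (by rw [Nat.mul_eq]; omega)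
  have h2 := M.ok_ok (h.2 t ht).1
  have h3 := congrArg (fun a => ρ (M.gx a)) (h.2 t ht).2
  simp only [M.gx_mu h2 (h1.1 hx), M.gx_mu (ok_getD (fun a ha => M.ok_ok (h.1 a ha)) _) h2, map_mul, ← h1.2] at h3
  rw [e2]
  exact tau_conj ((Group.isUnit _).map ρ) h3

theorem dim_of (h2 : (2 : K) ≠ 0) {reps : List ℕ} {labs : List (ℕ × ℕ × ℕ)} (h : labsOK mu ok e reps labs = true)
    {m : ℕ} {L ps ns : List ℕ} (hd : dimOK mu ok e labs m L ps ns = true) :
    (∀ v, M.nrm ρ (span mu e L) v ∈ M.fix ρ L) ∧ 2 ^ L.length * (finrank K (M.fix ρ L) : ℤ) =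
      ∑ c ∈ Finset.range m, ((ps.getD c 0 : ℤ) - ns.getD c 0) * M.tr ρ (reps.getD c e) := by
  simp only [dimOK, band_iff, allL_iff, spanF_eq, fL_eq, allLt_iff, nbeq_iff, blt_iff, Nat.mul_eq, Nat.add_eq,
    Nat.succ_eq_add_one] at hd
  have hL := fun a ha => M.ok_ok (hd.1 a ha)
  have h1 := chain_of (ρ := ρ) hL hL hd.2.1
  obtain ⟨h3, h4, h5⟩ := span_spec (ρ := ρ) hL
  refine ⟨fun v => h4 ▸ h1.nrm v, ?_⟩
  have h6 := h1.sum h2 1 (one_mem _)
  rw [tau_one h2, List.length_map, h5] at h6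
  rw [fix, ← h6, ← Finset.sum_congr rfl fun c hc => by
    rw [← (hd.2.2.2 c (Finset.mem_range.1 hc)).1, ← (hd.2.2.2 c (Finset.mem_range.1 hc)).2, ← smul_eq_mul],
    ← sum_signed (fun c => M.tr ρ (reps.getD c e)) hd.2.2.1, List.map_map]
  refine congrArg _ (List.map_congr_left fun x hx => ?_)
  have h7 := hd.2.2.1 _ (List.mem_map_of_mem hx)
  have h8 : Nat.mod x 2 = x % 2 := rfl
  rw [one_mul, tau_op, Function.comp_apply, tr_look h (h3 x hx).1 (m := m) (by omega),
    neg_pow_congr (a := x) (b := 2 * look labs m x + Nat.mod x 2) (by omega),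
    show (2 * look labs m x + Nat.mod x 2) / 2 = look labs m x by omega]

theorem cert_of [CharP K 3] {Pl T H : List ℕ} {N : ℕ} {tg : List ℕ} {cs : ℕ}
    {B : List (List ℕ × List (ℕ × ℕ × ℕ))} (h : certOK mu ok e Pl T H N ((tg, [(e, e, cs)]) :: B) = true)
    {P : End K V} {v : V} (hP : ∀ a ∈ Pl, M.Ok a ∧ P * M.op ρ a = P) (hH : ∀ a ∈ H, M.Ok a ∧ M.op ρ a v = v)
    (ht : ∀ a ∈ tg, M.Ok a)
    (hB : ∀ b ∈ B, (∀ a ∈ b.1, M.Ok a) ∧ ∀ r ∈ b.2, M.nrm ρ b.1 (M.op ρ r.2.1 v) = 0) :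
    P (M.nrm ρ tg v) = 0 := by
  simp only [certOK, band_iff, allL_iff, fL_eq, blkF_eq, allLt_iff, nbeq_iff, blt_iff, Nat.mul_eq,
    Nat.succ_eq_add_one] at h
  obtain ⟨hT, hO, hl, hc⟩ := h
  let u : ℕ → V := fun p => P (M.op ρ (T.getD p e) v)
  let s : List ℕ → V := fun l => (l.map fun c => (-1 : ℤ) ^ c • u (c / 2)).sum
  have getD : ∀ {L : List ℕ} {p : ℕ → Prop}, (∀ a ∈ L, p a) → p e → ∀ i, p (L.getD i e) := fun {L p} a b i => by
    rw [List.getD_eq_getElem?_getD]
    cases h' : L[i]? with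
    | none => exact b
    | some c => exact a c (List.mem_of_getElem? h')
  have h1 : ∀ y cs, M.Ok y → trm mu e Pl T H N y cs < 2 * N → P (M.op ρ y v) =
      (-1 : ℤ) ^ trm mu e Pl T H N y cs • u (trm mu e Pl T H N y cs / 2) := fun y cs hy hlt => by
    have a := getD hP ⟨M.ok_e, by simp [op_e]⟩ (Nat.mod cs 256)
    have b := ok_getD (fun a ha => M.ok_ok (hT a ha)) (Nat.mod (Nat.div cs 256) 256)
    have c := getD hH ⟨M.ok_e, by simp [op_e]⟩ (Nat.mod (Nat.div cs 65536) 256)
    simp only [trm, force_eq] at hlt ⊢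
    generalize Nat.mod (Nat.div cs 256) 256 = p at *
    generalize hz : mu (mu _ (T.getD p e)) _ = z at *
    cases e1 : Nat.beq (Nat.div y 2) (Nat.div z 2)
    · rw [e1] at hlt; exact absurd hlt (lt_irrefl _)
    · change _ = (-1 : ℤ) ^ (2 * p + (y + z) % 2) • u ((2 * p + (y + z) % 2) / 2)
      rw [op_half (Nat.eq_of_beq_eq_true e1), LinearMap.smul_apply, map_zsmul,
        neg_pow_congr (a := 2 * p + (y + z) % 2) (b := y + z) (by omega), show (2 * p + (y + z) % 2) / 2 = p by omega, ← hz, op_mu (M.ok_mu a.1 b) c.1, op_mu a.1 b, End.mul_apply,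
        c.2, ← End.mul_apply, ← mul_assoc, a.2, End.mul_apply]
  have h2 : ∀ g g' F, M.Ok g → M.Ok g' → (∀ a ∈ F, M.Ok a) → ∀ cs, (∀ c ∈ relL mu e Pl T H N g g' F cs, c < 2 * N) →
      s (relL mu e Pl T H N g g' F cs) = P (M.op ρ g (M.nrm ρ F (M.op ρ g' v))) := fun g g' F hg hg' hF => by
    induction F with
    | nil => simp [s, relL, nrm]
    | cons t F ih =>
      intro cs hcs
      have ht := hF t (by simp)
      rw [show relL mu e Pl T H N g g' (t :: F) cs = trm mu e Pl T H N (mu (mu g t) g') cs ::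
        relL mu e Pl T H N g g' F (Nat.div cs 16777216) from rfl] at hcs ⊢
      have := ih (fun a ha => hF a (by simp [ha])) _ fun c hc => hcs c (List.mem_cons_of_mem _ hc)
      simp only [s, nrm] at this
      simp only [s, nrm, List.map_cons, List.sum_cons, LinearMap.add_apply, map_add, this]
      rw [← h1 _ _ (M.ok_mu (M.ok_mu hg ht) hg') (hcs _ (by simp)), op_mu (M.ok_mu hg ht) hg', op_mu hg ht]
      rfl
  have h3 := sum_signed u hl
  rw [Finset.sum_eq_zero fun c hc' => by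
    obtain ⟨k, hk⟩ := (Nat.modEq_iff_dvd.1 (show _ ≡ _ [MOD 3] from (hc c (Finset.mem_range.1 hc')).symm))
    rw [hk, mul_smul, ← Int.cast_smul_eq_zsmul K, Int.cast_natCast, CharP.cast_eq_zero, zero_smul]] at h3
  simp only [List.flatMap_cons, List.flatMap_nil, List.append_nil, List.map_append, List.sum_append,
    List.forall_mem_append] at h3 hl
  have h4 := h2 e e tg M.ok_e M.ok_e ht cs hl.1
  simp only [s, op_e, End.one_apply] at h4
  have h0 : ∀ {α : Type} (l : List α) (f : α → List ℕ), (∀ a ∈ l, s (f a) = 0) → s (l.flatMap f) = 0 :=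
    fun l f hf => by
      induction l with
      | nil => rfl
      | cons a l ih =>
        have := ih fun b hb => hf b (by simp [hb])
        have := hf a (by simp)
        simp_all only [s, List.flatMap_cons, List.map_append, List.sum_append, add_zero]
  rw [← h4, ← h3, left_eq_add]
  refine h0 _ _ fun b hb => h0 _ _ fun r hr => ?_
  have h5 := hO b (List.mem_cons_of_mem _ hb) r hr
  have h6 := h2 _ _ _ (M.ok_ok h5.1) (M.ok_ok h5.2) (hB b hb).1 r.2.2 fun c hc =>
    hl.2 c (List.mem_flatMap.2 ⟨b, hb, List.mem_flatMap.2 ⟨r, hr, hc⟩⟩)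
  rw [(hB b hb).2 r hr, map_zero, map_zero] at h6
  exact h6

end Mdl

end Cfsg.Agent.E83
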