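import Mathlib
import Cfsg.Agent.E83.Mdl
import Cfsg.Agent.Spor.PMat2
import Cfsg.Agent.Perm.SpecMat
import Cfsg.Agent.Cl.GFSmall
import Cfsg.Agent.Cl.GFMid
import Cfsg.Agent.Cl.OrthWedge

/-!
# Codes for projective matrix groups over table fields
-/

set_option autoImplicit false

namespace Cfsg.Agent.E83

open Cfsg.Agent.Spor Cfsg.Agent.Cl Cfsg.Agent.Spor.PM Cfsg.Agent.Perm.SM Matrix

variable (D : TFData) (n : ℕ)

/-- the matrix with given entries -/
noncomputable def mk (f : ℕ → ℕ → ℕ) : ℕ :=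
  bld (fun x => force (Nat.div x n) fun i => force (Nat.mod x n) fun j => f i j) (Nat.mul n n)

/-- product -/
noncomputable def mm (A B : ℕ) : ℕ := mk n fun i j =>
  dotc D (fun k => D.byte A (Nat.add (Nat.mul n i) k)) (fun k => D.byte B (Nat.add (Nat.mul n k) j)) n

/-- scalar multiple -/
noncomputable def sc (c A : ℕ) : ℕ := mk n fun i j => D.mul c (D.byte A (Nat.add (Nat.mul n i) j))

/-- transpose -/
noncomputable def trp (A : ℕ) : ℕ := mk n fun i j => D.byte A (Nat.add (Nat.mul n j) i)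

/-- least scalar multiple -/
noncomputable def nf (cs : List ℕ) (A : ℕ) : ℕ :=
  List.rec A (fun c _ ih => force ih fun x => force (sc D n c A) fun y => Bool.rec y x (Nat.ble x y)) cs

/-- product of signed codes -/
noncomputable def pmu (cs : List ℕ) (A B : ℕ) : ℕ :=
  force A fun A => force B fun B => force (Nat.div A 2) fun a => force (Nat.div B 2) fun b =>
    force (mm D n a b) fun C => Nat.add (Nat.mul 2 (nf D n cs C)) (Nat.mod (Nat.add A B) 2)

variable {D n} [hD : Fact (D.ok = true)] {ι : Type*} [Fintype ι] [DecidableEq ι] (ε : ι ≃ Fin n)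

omit hD in
theorem mk_congr {f g : ℕ → ℕ → ℕ} (h : ∀ i j : Fin n, f i j = g i j) : mk n f = mk n g := by
  have : ∀ k ≤ n * n, bld (fun x => f (x / n) (x % n)) k = bld (fun x => g (x / n) (x % n)) k := fun k hk => by
    induction k with
    | zero => rfl
    | succ k ih =>
      have hn : 0 < n := Nat.pos_of_ne_zero (by rintro rfl; omega)
      rw [bld_succ, bld_succ, ih (by omega),
        h ⟨k / n, Nat.div_lt_of_lt_mul (by omega)⟩ ⟨k % n, Nat.mod_lt _ hn⟩]
  exact this _ le_rfl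

omit [Fintype ι] [DecidableEq ι] in
theorem matOf_mk (hq : D.q ≤ 256) {f : ℕ → ℕ → ℕ} {X : Matrix ι ι (TF D)} (hf : ∀ i j, f i j < D.q)
    (h : ∀ i j, (X i j).code = f (ε i) (ε j)) : matOf D ε (mk n f) = X := by
  ext i j
  apply TF.ext_code
  rw [h, matOf, of_apply, code_byte]
  change dg (mk n f) (n * ε i + ε j) % D.q = _
  rw [mul_comm, mk, dg_bld (fun x _ => by exact (hf _ _).trans_le hq) (idx_lt _ _), force_eq, force_eq, idx_div, idx_mod,
    Nat.mod_eq_of_lt (hf _ _)]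

theorem dotc_lt (f g : ℕ → ℕ) (k : ℕ) : dotc D f g k < D.q := by
  cases k with
  | zero => exact TF.q_pos
  | succ k => exact D.byte_lt TF.q_pos _ _

omit [DecidableEq ι] in
theorem matOf_mm (hq : D.q ≤ 256) (A B : ℕ) : matOf D ε (mm D n A B) = matOf D ε A * matOf D ε B :=
  matOf_mk ε hq (fun _ _ => dotc_lt _ _ _) (code_mul_apply ε A B)

omit [Fintype ι] [DecidableEq ι] in
theorem matOf_trp (hq : D.q ≤ 256) (A : ℕ) : matOf D ε (trp D n A) = (matOf D ε A)ᵀ :=
  matOf_mk ε hq (fun _ _ => D.byte_lt TF.q_pos _ _) fun _ _ => code_byte _ _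

omit [Fintype ι] [DecidableEq ι] in
theorem matOf_nf (hq : D.q ≤ 256) {cs : List ℕ} (hc : ∀ c ∈ cs, c < D.q) (A : ℕ) :
    matOf D ε (nf D n cs A) = matOf D ε A ∨ ∃ c ∈ cs, matOf D ε (nf D n cs A) = TF.ofCode D c • matOf D ε A := by
  induction cs with
  | nil => exact .inl rfl
  | cons c cs ih =>
    rw [show nf D n (c :: cs) A = Bool.rec (sc D n c A) (nf D n cs A) (Nat.ble (nf D n cs A) (sc D n c A)) from rfl]
    cases Nat.ble (nf D n cs A) (sc D n c A)
    · exact .inr ⟨c, by simp, matOf_mk ε hq (fun _ _ => D.byte_lt TF.q_pos _ _) fun i j => by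
        rw [Matrix.smul_apply, smul_eq_mul, TF.code_mul, TF.code_ofCode_of_lt (hc c (by simp))]
        exact congrArg _ (code_byte _ _)⟩
    · exact (ih fun c h => hc c (by simp [h])).imp id fun ⟨d, a, b⟩ => ⟨d, by simp [a], b⟩

theorem exists_mdl (hq : D.q ≤ 256) {Γ G : Type*} [Group Γ] [Group G] (ρ : Γ →* Matrix ι ι (TF D))
    (hρ : Function.Injective ρ) (φ : Γ →* G) (hφ : ∀ g, φ g = 1 ↔ g ∈ Subgroup.center Γ) {cs : List ℕ}
    (hc : ∀ c ∈ cs, c < D.q ∧ ∃ z, ρ z = TF.ofCode D c • 1) {ok : ℕ → Bool}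
    (hok : ∀ a, ok a = true → ∃ g, ρ g = matOf D ε (a / 2)) {e : ℕ} (he : e % 2 = 0 ∧ matOf D ε (e / 2) = 1) :
    Nonempty (Mdl (pmu D n cs) ok e G) := by
  have h0 : ∀ a b, pmu D n cs a b = 2 * nf D n cs (mm D n (a / 2) (b / 2)) + (a + b) % 2 := fun _ _ => rfl
  have h1 : ∀ {a b g h}, ρ g = matOf D ε (a / 2) → ρ h = matOf D ε (b / 2) →
      ∃ k, ρ k = matOf D ε (pmu D n cs a b / 2) ∧ φ k = φ g * φ h := fun {a b g h} hg hh => by
    rw [h0, show ∀ x, (2 * x + (a + b) % 2) / 2 = x from fun x => by omega]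
    rcases matOf_nf ε hq (fun c h => (hc c h).1) (mm D n (a / 2) (b / 2)) with e1 | ⟨c, hc', e1⟩
    · exact ⟨g * h, by rw [e1, matOf_mm ε hq, map_mul, hg, hh], map_mul _ _ _⟩
    · obtain ⟨z, hz⟩ := (hc c hc').2
      refine ⟨z * (g * h), by rw [e1, matOf_mm ε hq, map_mul, map_mul, hg, hh, hz, smul_mul_assoc, one_mul], ?_⟩
      rw [map_mul, map_mul, (hφ z).2 (Subgroup.mem_center_iff.2 fun x => hρ (by simp [hz])), one_mul]
  refine ⟨⟨fun a => ∃ g, ρ g = matOf D ε (a / 2), fun a => φ (pick ε ρ (a / 2)), ⟨1, by simp [he.2]⟩, ?_, he.1,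
    fun ⟨_, a⟩ ⟨_, b⟩ => (h1 a b).imp fun _ h => h.1, fun a b => ?_, fun a b => by rw [h0]; omega,
    fun h => by simp [h], hok _, fun {a b} ha hb h => ?_⟩⟩
  · rw [hρ ((pick_spec ε ⟨1, by simp [he.2]⟩).trans (he.2.trans (map_one ρ).symm)), map_one]
  · obtain ⟨k, h2, h3⟩ := h1 (pick_spec ε a) (pick_spec ε b)
    rw [← h3, hρ ((pick_spec ε ⟨k, h2⟩).trans h2.symm)]
  · have h2 := congrArg ρ (Subgroup.mem_center_iff.1 ((hφ _).1 h) (pick ε ρ (b / 2)))
    rw [map_mul, map_mul, pick_spec ε ha, pick_spec ε hb] at h2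
    rw [h0, h0, add_comm a b, mm, mm, mk_congr fun i j => ?_]
    have h3 := code_mul_apply (D := D) ε (a / 2) (b / 2) (ε.symm i) (ε.symm j)
    rw [← h2, code_mul_apply] at h3
    simpa using h3.symm

/-- membership test for `SL₂(32)` -/
def okL (a : ℕ) : Bool := decide ((matOf gf32 (Equiv.refl (Fin 2)) (a / 2) 0 0 * matOf gf32 (Equiv.refl (Fin 2)) (a / 2) 1 1 -
  matOf gf32 (Equiv.refl (Fin 2)) (a / 2) 0 1 * matOf gf32 (Equiv.refl (Fin 2)) (a / 2) 1 0) = 1)

theorem mdlL {G : Type*} [Group G] (φ : ProjectiveSpecialLinearGroup (Fin 2) (TF gf32) →* G) (hφ : Function.Injective φ) :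
    Nonempty (Mdl (pmu gf32 2 []) okL 0x2000002 G) :=
  exists_mdl (Equiv.refl _) (by decide) (slToMat 2 (TF gf32)) (fun _ _ h => Subtype.ext h) (φ.comp (QuotientGroup.mk' _))
    (fun g => by simp [map_eq_one_iff φ hφ]) (by simp)
    (fun a h => exists_sl (by rw [det_fin_two]; exact of_decide_eq_true h)) ⟨rfl, by decide +kernel⟩

/-- membership test for `Sp₆(3)` -/
noncomputable def okS (a : ℕ) : Bool := force (Nat.div a 2) fun A =>
  Nat.beq (mm gf3 6 (mm gf3 6 A 0x10000000000000100000000000001020000000000000200000000000002000000) (trp gf3 6 A)) 0x10000000000000100000000000001020000000000000200000000000002000000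

theorem mdlS {G : Type*} [Group G] (φ : PSp 3 (TF gf3) →* G) (hφ : Function.Injective φ) :
    Nonempty (Mdl (pmu gf3 6 [2]) okS 0x20000000000000200000000000002000000000000020000000000000200000000000002 G) := by
  have hJ : matOf gf3 (finSumFinEquiv (m := 3) (n := 3)) 0x10000000000000100000000000001020000000000000200000000000002000000 = J (Fin 3) (TF gf3) := by decide +kernel
  refine exists_mdl (finSumFinEquiv (m := 3) (n := 3)) (by decide) (symplecticGroup (Fin 3) (TF gf3)).subtype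
    Subtype.val_injective (φ.comp (QuotientGroup.mk' _)) (fun g => by simp [map_eq_one_iff φ hφ])
    (fun c hc => ?_) (fun a h => exists_sp _ ?_) ⟨rfl, by decide +kernel⟩
  · obtain rfl : c = 2 := by simpa using hc
    exact ⟨by decide, ⟨-1, SymplecticGroup.neg_mem (one_mem _)⟩, by decide +kernel⟩
  · rw [← hJ, ← matOf_trp _ (by decide), ← matOf_mm _ (by decide), ← matOf_mm _ (by decide)]
    exact congrArg _ (Nat.eq_of_beq_eq_true h)

/-- a minor -/
def mnr (M r i j : ℕ) : TF gf9 := TF.ofCode gf9 (gf9.byte M (r + i)) * TF.ofCode gf9 (gf9.byte M (r + 4 + j)) -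
  TF.ofCode gf9 (gf9.byte M (r + j)) * TF.ofCode gf9 (gf9.byte M (r + 4 + i))

/-- membership test for `SU₄(3)` -/
noncomputable def okU (a : ℕ) : Bool := force (Nat.div a 2) fun A => band (uniOK gf9 4 3 A) (decide
  (mnr A 0 0 1 * mnr A 8 2 3 - mnr A 0 0 2 * mnr A 8 1 3 + mnr A 0 0 3 * mnr A 8 1 2 + mnr A 0 1 2 * mnr A 8 0 3 -
    mnr A 0 1 3 * mnr A 8 0 2 + mnr A 0 2 3 * mnr A 8 0 1 = 1))

theorem okU_spec (a : ℕ) (h : okU a = true) : ∃ g, suRep 4 (TF gf9) 3 g = matOf gf9 (Equiv.refl (Fin 4)) (a / 2) := by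
  rw [okU, force_eq, band_iff] at h
  have h2 : (matOf gf9 (Equiv.refl (Fin 4)) (a / 2)).det = 1 := by
    rw [o_det_fin_four]
    exact of_decide_eq_true h.2
  have h3 : uniOK gf9 4 3 (a / 2) = true := h.1
  exact ⟨_, suRep_suOf rfl h3 h2⟩

theorem mdlU {G : Type*} [Group G] (φ : PSU 4 (TF gf9) 3 →* G) (hφ : Function.Injective φ) :
    Nonempty (Mdl (pmu gf9 4 [2, 4, 8]) okU 0x2000000000200000000020000000002 G) := by
  refine exists_mdl (Equiv.refl _) (by decide) (suRep 4 (TF gf9) 3) (fun _ _ h => Subtype.ext (Subtype.ext h))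
    (φ.comp (QuotientGroup.mk' _)) (fun g => by simp [map_eq_one_iff φ hφ]) (fun c hc => ?_) okU_spec
    ⟨rfl, by decide +kernel⟩
  have h : ∀ c ∈ [2, 4, 8], c < gf9.q ∧ okU (c * 0x2000000000200000000020000000002) = true ∧
      matOf gf9 (Equiv.refl (Fin 4)) (c * 0x2000000000200000000020000000002 / 2) = TF.ofCode gf9 c • 1 := by decide +kernel
  exact ⟨(h c hc).1, (h c hc).2.2 ▸ okU_spec _ (h c hc).2.1⟩

end Cfsg.Agent.E83
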