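import Mathlib
import Cfsg.Agent.Chev.E8Kac

/-!
# Weight table and the alcove search for elements of order 31
-/

set_option autoImplicit false
set_option maxRecDepth 100000

namespace Cfsg.Agent.E83

open Cfsg.Lie Cfsg.Lie.ChevalleyDatum Chev Chev.Chk Chev.Alc Chev.Kac

/-- the weights of the adjoint module -/
def tlM : List (List ℕ) := tlE8.map fun c => c.map fun v => if v ≤ 6 then v else v + 13623

theorem tabM (K : Type*) [Field K] : chevE8.TabOK (chevE8.adjRep K).μ 1 13640 tlM := by
  refine ⟨rfl, fun a k => ?_⟩
  change _ ∣ _ * chevE8.wtI (finSumFinEquiv.symm a) k - _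
  revert a k
  decide +kernel

/-- the search -/
noncomputable def c31 (m : ℕ) : Bool :=
  alcS 31 [2, 3, 4, 6, 5, 4, 3, 2] tlM 31 (248 - 30 * m + m * ((257 ^ 31 - 257) / 256))
    (fun s _ _ => decide (∀ t ∈ s, 31 ∣ t))

theorem c31_0 : c31 0 = true := by decide +kernel

theorem c31_1 : c31 1 = true := by decide +kernel

theorem c31_2 : c31 2 = true := by decide +kernel

theorem c31_3 : c31 3 = true := by decide +kernel

theorem c31_4 : c31 4 = true := by decide +kernel

theorem c31_5 : c31 5 = true := by decide +kernel

theorem c31_6 : c31 6 = true := by decide +kernel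

theorem c31_7 : c31 7 = true := by decide +kernel

theorem chk31 (m : ℕ) (h : m < 8) : c31 m = true := by
  interval_cases m
  exacts [c31_0, c31_1, c31_2, c31_3, c31_4, c31_5, c31_6, c31_7]

end Cfsg.Agent.E83
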