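import Mathlib
import Cfsg.Agent.E83.K31
import Cfsg.Agent.Chev.SsE7
import Cfsg.Agent.E83.Lin

/-!
# Fixed spaces of semisimple elements of `E₈(3)` on the adjoint module
-/

set_option autoImplicit false
set_option maxRecDepth 100000

namespace Cfsg.Agent.E83

open Cfsg.Lie Cfsg.Lie.ChevalleyDatum Chev Chev.Chk Chev.Alc Chev.Kac Polynomial Module Matrix

/-- the group -/
abbrev St : Type := chevE8.SteinbergGroup (ZMod 3)

/-- the adjoint module -/
abbrev LL : Type := Fin (chevE8.rank + chevE8.nroots) → K3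

/-- the adjoint representation -/
noncomputable def rho : St →* End K3 LL := toLinAlgEquiv'.toMonoidHom.comp ad3

theorem finrank_LL : finrank K3 LL = 248 := by simp [LL]; rfl

theorem two_ne : (2 : K3) ≠ 0 := fun h =>
  absurd ((CharP.cast_eq_zero_iff K3 3 2).1 (by exact_mod_cast h)) (by norm_num)

theorem tau_rho_one : tau ⊤ (rho 1) = 248 := by
  rw [map_one, tau_one two_ne, finrank_top, finrank_LL]; rfl

open Classical in
theorem eig_count {x : St} {n : ℕ} (hn : n.Coprime 3) (hx : x ^ n = 1) (μ : K3) :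
    finrank K3 (End.eigenspace (rho x) μ) = (ad3 x).charpoly.roots.count μ := by
  have h1 : (rho x).IsSemisimple := End.isSemisimple_of_squarefree_aeval_eq_zero (p := Polynomial.X ^ n - 1)
    (X_pow_sub_one_separable_iff.2 (by
      rw [Ne, CharP.cast_eq_zero_iff _ 3]
      exact Nat.prime_three.coprime_iff_not_dvd.1 hn.symm)).squarefree (by rw [map_sub, map_pow, aeval_X, ← map_pow, hx, map_one, map_one, sub_self])
  rw [← (End.isFinitelySemisimple_iff_isSemisimple.2 h1).maxGenEigenspace_eq_eigenspace,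
    LinearMap.finrank_maxGenEigenspace_eq, count_roots]
  exact congrArg _ (charpoly_toLin' _)

open Classical in
theorem exists_kacM {n : ℕ} (hm : n ∣ 13640) {ξ : K3} (hξ : IsPrimitiveRoot ξ n) {x : St} (hx : x ^ n = 1) :
    ∃ s, s.length = 8 ∧ dotL [2, 3, 4, 6, 5, 4, 3, 2] s ≤ n ∧ sumT pw tlM s n 1 = sumT pw tlM s n 3 ∧
      (∀ j < n, sumT (ind (3 * j % n)) tlM s n 1 = sumT (ind j) tlM s n 1) ∧
      (∀ k, fd ⊤ (rho (x ^ k)) = sumT (ind 0) tlM s n k ∧
        (n = 8 → fd ⊤ (-rho (x ^ k)) = sumT (ind 4) tlM s n k)) ∧ ((∀ t ∈ s, n ∣ t) → x = 1) := by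
  have hn : 0 < n := Nat.pos_of_dvd_of_pos hm (by norm_num)
  have hc3 : n.Coprime 3 := (show Nat.Coprime 13640 3 by norm_num).coprime_dvd_left hm
  have hinj := stTor_injective_E8 K3
  obtain ⟨-, -, χ, -, hc⟩ := chevE8.exists_isConj_torC (ZMod 3) hinj 3 x
    (hc3.coprime_dvd_left (orderOf_dvd_of_pow_eq_one hx))
  have h3 : ∀ k, IsConj (chevE8.stMap (algebraMap _ K3) (x ^ k)) (chevE8.torC _ χ ^ k) := fun k => by
    rw [map_pow]; exact hc.pow k
  obtain ⟨s, h4, h5, h6⟩ := (chevE8.adjRep K3).exists_alc (tabM _) hiE8 hn hm (by simp) hξ (χ := χ)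
    (chevE8.torC_injective hinj (((chevE8.torC K3).map_pow χ n).trans
      (by simpa [hx] using (h3 n).symm)))
    (P := fun s => decide (s.length = 8 ∧ dotL [2, 3, 4, 6, 5, 4, 3, 2] s ≤ n))
    (allS_of fun s h h' => decide_eq_true ⟨h, h'⟩)
  have h7 : ∀ k, (ad3 (x ^ k)).charpoly.roots = _ := fun k => ((chevE8.adjRep K3).ev_conj (h3 k)).trans (h5 k)
  have h8 := ad3_frob (x ^ 1)
  have h9 : ∀ k j, j < n → finrank K3 (End.eigenspace (rho (x ^ k)) (ξ ^ j)) = sumT (ind j) tlM s n k :=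
    fun k j hj => by rw [eig_count hc3 (by rw [← pow_mul, mul_comm, pow_mul, hx, one_pow]), h7, count_eq_sumT hξ _ _ _ hj]
  refine ⟨s, (of_decide_eq_true h4).1, (of_decide_eq_true h4).2, sumT_congr hn hξ _ ?_, fun j hj => ?_,
    fun k => ⟨?_, fun h => ?_⟩, fun hk => chevE8.stMap_injective hinj (algebraMap _ K3) ?_⟩
  · rw [h7] at h8
    simpa [← pow_mul, mul_comm, Function.comp_def] using h8.symm
  · rw [← count_eq_sumT hξ _ _ _ hj, ← count_eq_sumT hξ _ _ _ (Nat.mod_lt _ hn), ← h7,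
      ← Multiset.count_map_eq_count' _ _ (frobenius_inj K3 3) (ξ ^ j), hξ.eq_orderOf, pow_mod_orderOf, mul_comm,
      pow_mul]
    exact congrArg _ h8.symm
  · rw [← h9 k 0 hn, fd, top_inf_eq, pow_zero, End.eigenspace_def, one_smul, fx]
  · subst h
    rw [← h9 k 4 (by norm_num), (hξ.pow (by norm_num) (show 8 = 4 * 2 from rfl)).eq_neg_one_of_two_right, fd,
      top_inf_eq]
    congr 2
    all_goals
      ext v
      rw [mem_fx_neg, End.mem_eigenspace_iff, neg_one_smul]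
  · simpa [show chevE8.torC K3 χ = 1 by simpa using center_E8 _ _ (h6 1 (by simpa using hk))] using h3 1

/-- the check for elements conjugate to their cubes -/
noncomputable def kchk (n : ℕ) (P : List (List ℕ) → List ℕ → Bool) : Bool :=
  forceT tlM fun tl => allS [2, 3, 4, 6, 5, 4, 3, 2] n fun s =>
    !Nat.beq (sumT pw tl s n 1) (sumT pw tl s n 3) || P tl s

theorem of_kchk {n : ℕ} (hm : n ∣ 13640) {x : St} (hx : x ^ n = 1) {P : List (List ℕ) → List ℕ → Bool}
    (h : kchk n P = true) : ∃ s, P tlM s = true ∧ (∀ k, fd ⊤ (rho (x ^ k)) = sumT (ind 0) tlM s n k ∧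
      (n = 8 → fd ⊤ (-rho (x ^ k)) = sumT (ind 4) tlM s n k)) ∧ ((∀ t ∈ s, n ∣ t) → x = 1) := by
  obtain ⟨ξ, hξ⟩ := exists_primRoot (ZMod 3) 3 ((show Nat.Coprime 13640 3 by norm_num).coprime_dvd_left hm)
  obtain ⟨s, h1, h2, h3, -, h4⟩ := exists_kacM hm hξ hx
  rw [kchk, forceT_eq] at h
  exact ⟨s, by simpa [h3] using allS_spec (by decide) h h1 h2, h4⟩

/-- rational traces of `x`, `x ^ 2`, `x ^ 4` -/
def kacL : List (ℤ × ℤ × ℤ) := [(0, 0, -8), (0, 8, -8), (4, 0, -8), (-2, 4, 24), (2, -4, 24), (2, 4, 24), (6, 4, 24),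
  (16, 0, -8), (-2, 28, 24), (-4, 64, -8), (14, 28, 24), (34, -4, 24), (12, 64, -8), (0, -8, 248), (8, -8, 248),
  (-6, 132, 24), (-4, 24, 248), (44, 64, -8), (4, 24, 248), (26, 132, 24), (78, 28, 24), (28, 24, 248),
  (64, -8, 248), (-8, 248, 248), (132, 24, 248), (24, 248, 248)]

theorem kac8 {x : St} (hx : x ^ 8 = 1) (h1 : x ≠ 1) :
    (tau ⊤ (rho x), tau ⊤ (rho (x ^ 2)), tau ⊤ (rho (x ^ 4))) ∈ kacL := by
  obtain ⟨s, h2, h3, h4⟩ := of_kchk (by norm_num) hx (P := fun tl s => decide ((∀ t ∈ s, 8 ∣ t) ∨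
    (((sumT (ind 0) tl s 8 1 : ℤ) - sumT (ind 4) tl s 8 1, (sumT (ind 0) tl s 8 2 : ℤ) - sumT (ind 4) tl s 8 2,
      (sumT (ind 0) tl s 8 4 : ℤ) - sumT (ind 4) tl s 8 4) ∈ kacL))) (by decide +kernel)
  have h5 := h3 1
  rw [pow_one] at h5
  simp only [tau, h5.1, h5.2 rfl, (h3 _).1, (h3 _).2 rfl]
  exact (of_decide_eq_true h2).resolve_left fun h => h1 (h4 h)

theorem kacP {n : ℕ} (hm : n ∣ 13640) {x : St} (hx : x ^ n = 1) (h1 : x ≠ 1) {L : List ℕ}
    (h : kchk n (fun tl s => decide ((∀ t ∈ s, n ∣ t) ∨ sumT (ind 0) tl s n 1 ∈ L)) = true) : fd ⊤ (rho x) ∈ L := by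
  obtain ⟨s, h2, h3, h4⟩ := of_kchk hm hx h
  rw [← pow_one x, (h3 1).1]
  exact (of_decide_eq_true h2).resolve_left fun h => h1 (h4 h)

theorem kac5 {x : St} (hx : x ^ 5 = 1) (h1 : x ≠ 1) : fd ⊤ (rho x) ∈ [48, 52, 68] :=
  kacP (by norm_num) hx h1 (by decide +kernel)

theorem kac11 {x : St} (hx : x ^ 11 = 1) (h1 : x ≠ 1) : fd ⊤ (rho x) ∈ [28] :=
  kacP (by norm_num) hx h1 (by decide +kernel)

theorem kac31 {x : St} (hx : x ^ 31 = 1) (h1 : x ≠ 1) : fd ⊤ (rho x) < 24 := by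
  obtain ⟨ξ, hξ⟩ := exists_primRoot (ZMod 3) 3 (n := 31) (by norm_num)
  obtain ⟨s, h2, h3, -, h4, h5, h6⟩ := exists_kacM (by norm_num) hξ hx
  let A : Multiset ℕ := (tlM.map fun c => dotL c s % 31 : List ℕ)
  have a1 : ∀ j, sumT (ind j) tlM s 31 1 = A.count j := fun j => by
    simp only [sumT_eq, A, one_mul, Multiset.coe_count]
    generalize tlM = l
    induction l with
    | nil => rfl
    | cons c l ih =>
      rw [List.map_cons, List.sum_cons, ih, List.map_cons, List.count_cons, add_comm, ind]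
      congr 1
      cases e : Nat.beq (dotL c s % 31) j
      · simp [Nat.ne_of_beq_eq_false e]
      · simp [Nat.eq_of_beq_eq_true e]
  simp only [a1] at h4
  have a2 : ∀ i, A.count (3 ^ i % 31) = A.count 1 := fun i => by
    induction i with
    | zero => rfl
    | succ i ih => rw [← ih, ← h4 (3 ^ i % 31) (Nat.mod_lt _ (by norm_num)), Nat.mul_mod_mod, pow_succ']
  have a3 : ∀ j < 30, A.count (j + 1) = A.count 1 := fun j hj => by
    obtain ⟨i, -, e⟩ := (by decide : ∀ j < 30, ∃ i < 30, 3 ^ i % 31 = j + 1) j hj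
    rw [← e, a2]
  have a4 : ∀ f : ℕ → ℕ, (A.map f).sum = A.count 0 * f 0 + A.count 1 * ∑ j ∈ Finset.range 30, f (j + 1) := fun f => by
    rw [Finset.sum_multiset_map_count, Finset.sum_subset (s₂ := Finset.range 31) (fun a ha => by
      obtain ⟨c, -, rfl⟩ := List.mem_map.1 (Multiset.mem_toFinset.1 ha)
      exact Finset.mem_range.2 (Nat.mod_lt _ (by norm_num))) fun a _ ha => by simpa using .inl (by simpa using ha),
      Finset.sum_range_succ', add_comm, Finset.mul_sum]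
    exact congrArg _ (Finset.sum_congr rfl fun j hj => by rw [a3 j (Finset.mem_range.1 hj), smul_eq_mul])
  have a5 := a4 fun _ => 1
  rw [Multiset.map_const', Multiset.sum_replicate, show A.card = 248 by simp [A, tlM]; rfl] at a5
  simp only [smul_eq_mul, Finset.sum_const, Finset.card_range] at a5
  rw [← pow_one x, (h5 1).1, a1]
  by_contra h
  refine h1 (h6 (of_decide_eq_true (alcS_spec (P := fun s _ _ => decide (∀ t ∈ s, 31 ∣ t)) (T := tlM) (R := 0)
    (n := 31) (by decide) h2 h3 (by decide +kernel) ?_)))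
  rw [add_zero, a4, show A.count 0 * 257 ^ 0 = 248 - 30 * A.count 1 by omega,
    show ∑ j ∈ Finset.range 30, 257 ^ (j + 1) = (257 ^ 31 - 257) / 256 by decide +kernel]
  exact chk31 _ (by omega)

theorem not_conj41 {x : St} (hx : orderOf x = 41) : ¬ IsConj x (x ^ 2) := fun h => by
  have hinj := stTor_injective_E8 K3
  obtain ⟨w, hw, χ, hχ, hc⟩ := chevE8.exists_isConj_torC (ZMod 3) hinj 3 x (by rw [hx]; norm_num)
  obtain ⟨w', hw', e⟩ := chevE8.exists_lw_of_isConj hinj (χ := χ) (χ' := χ ^ 2) (by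
    rw [show chevE8.torC _ (χ ^ 2) = chevE8.torC _ χ ^ 2 from map_pow (chevE8.torC _) χ 2]
    refine hc.symm.trans (.trans ?_ (hc.pow 2))
    rw [← map_pow]
    exact MonoidHom.map_isConj _ h)
  have h1 : χ ∈ twT K3 (chevE8.wl (w * w')) 6 := fun v => by
    rw [chevE8.wl_mul hw hw', mem_twT.1 hχ, ← cv_chrComp, ← e, cv_pow, ZMod.card, ← pow_mul]
  have h2 : orderOf χ = 41 := by
    obtain ⟨c, hc⟩ := hc
    rw [← orderOf_injective _ (chevE8.torC_injective hinj), ← hc.orderOf_eq,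
      orderOf_injective _ (chevE8.stMap_injective hinj _), hx]
  have hw2 := mul_mem hw hw'
  have h3 := orderOf_dvd_natCard (⟨χ, h1⟩ : twT K3 _ 6)
  rw [Subgroup.orderOf_mk, h2, card_twT _ _ _ (chevE8.det_wm_sub_ne_zero hw2 (by
    rw [show 6 = 2 * 3 from rfl, Nat.cast_mul, CharP.cast_eq_zero K3 3, mul_zero]))] at h3
  have h4 : chevE8.wm (w * w') ^ orderOf (w * w') = 1 := by
    rw [← chevE8.wm_pow hw2, pow_orderOf_eq_one, chevE8.wm_one]
  obtain ⟨d, hd, h5, h6⟩ := exists_cyclotomic_dvd (orderOf_pos _) (l := 41) (by norm_num) 6 _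
    (charpoly_dvd_of_pow_eq_one h4) (by
      rw [eval_charpoly, ← neg_sub, det_neg, scalar_apply, ← smul_one_eq_diagonal]
      exact (Int.natCast_dvd.2 h3).mul_left _)
  have h7 := natDegree_le_of_dvd h5 (charpoly_monic _).ne_zero
  rw [natDegree_cyclotomic, charpoly_natDegree_eq_dim] at h7
  have h8 : ((6 : ℕ) : ZMod 41) ^ d = 1 := by
    have := (ZMod.intCast_zmod_eq_zero_iff_dvd _ 41).2 (h6.trans (eval_dvd (x := 6) (cyclotomic.dvd_X_pow_sub_one d ℤ)))
    simpa [sub_eq_zero] using this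
  have h9 := orderOf_dvd_of_pow_eq_one h8
  rw [show orderOf ((6 : ℕ) : ZMod 41) = 40 from orderOf_eq_of_pow_and_pow_div_prime (by norm_num) (by decide)
    fun p hp hd => by
      have := Nat.le_of_dvd (by norm_num) hd
      interval_cases p <;> first | decide | norm_num at hp] at h9
  have := Nat.le_of_dvd (Nat.totient_pos.2 hd) (Nat.totient_dvd_of_dvd h9)
  rw [show Nat.totient 40 = 16 by decide] at this
  exact absurd (this.trans h7) (by decide)

end Cfsg.Agent.E83
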