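import Mathlib
import Cfsg.Agent.E83.Kac
import Cfsg.Agent.E83.Mat

/-!
# Rational traces of coded elements of `E₈(3)`
-/

set_option autoImplicit false

namespace Cfsg.Agent.E83

open Cfsg.Agent.Spor Module

variable (mu : ℕ → ℕ → ℕ) (ok : ℕ → Bool) (e : ℕ)

/-- `r` is a nontrivial element with `r ^ n = 1` -/
noncomputable def ordOK (n r s : ℕ) : Bool :=
  band (ok r) <| band (ok s) <| band (Nat.beq (pw mu e r n) e) (!Nat.beq (mu r s) (mu s r))

/-- the classes of the powers of `r` -/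
noncomputable def kacOK (reps : List ℕ) (labs : List (ℕ × ℕ × ℕ)) (m s c c₂ c₄ : ℕ) : Bool :=
  band (ordOK mu ok e 8 (reps.getD c e) s) <| band (blt c₂ m) <| band (blt c₄ m) <|
    band (Nat.beq (look labs m (pw mu e (reps.getD c e) 2)) c₂) (Nat.beq (look labs m (pw mu e (reps.getD c e) 4)) c₄)

variable {mu ok e}

theorem Mdl.ord_of (M : Mdl mu ok e St) {n r s : ℕ} (h : ordOK mu ok e n r s = true) :
    M.Ok r ∧ M.gx r ^ n = 1 ∧ M.gx r ≠ 1 := by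
  simp only [ordOK, band_iff, nbeq_iff, Bool.not_eq_true'] at h
  have h1 := M.ok_ok h.1
  exact ⟨h1, by rw [← (Mdl.pw_spec (ρ := rho) h1 n).2.1, h.2.2.1, M.gx_e],
    fun h2 => Nat.ne_of_beq_eq_false h.2.2.2 (M.comm h1 (M.ok_ok h.2.1) h2)⟩

theorem Mdl.kac_of (M : Mdl mu ok e St) {reps : List ℕ} {labs : List (ℕ × ℕ × ℕ)}
    (hl : labsOK mu ok e reps labs = true) {m s c c₂ c₄ : ℕ} (h : kacOK mu ok e reps labs m s c c₂ c₄ = true) :
    (M.tr rho (reps.getD c e), M.tr rho (reps.getD c₂ e), M.tr rho (reps.getD c₄ e)) ∈ kacL := by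
  simp only [kacOK, band_iff, nbeq_iff, blt_iff] at h
  obtain ⟨h1, h2, h3⟩ := M.ord_of h.1
  have h4 := kac8 h2 h3
  have h5 := fun n => Mdl.pw_spec (ρ := rho) h1 n
  rw [← (h5 2).2.1, ← (h5 4).2.1] at h4
  rw [← h.2.2.2.1, ← Mdl.tr_look hl (h5 2).1 (by omega), ← h.2.2.2.2, ← Mdl.tr_look hl (h5 4).1 (by omega)]
  exact h4

theorem Mdl.tr_e (M : Mdl mu ok e St) : M.tr rho e = 248 := by rw [Mdl.tr, M.gx_e, tau_rho_one]

theorem oks (M : Mdl mu ok e St) {L : List ℕ} (h : allL L ok = true) : ∀ a ∈ L, M.Ok a :=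
  fun a ha => M.ok_ok ((allL_iff _ _).1 h a ha)

theorem smul_eq_zero3 {n : ℕ} {v : LL} (h : (n : Chev.Kac.K3) • v = 0) (hn : ¬ 3 ∣ n) : v = 0 :=
  (smul_eq_zero.1 h).resolve_left fun h => hn ((CharP.cast_eq_zero_iff _ 3 n).1 h)

end Cfsg.Agent.E83
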