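import Mathlib
import Cfsg.Agent.E83.Use

/-!
# The argument with `2⁴ : A₆`
-/

set_option autoImplicit false

namespace Cfsg.Agent.E83.U4

open Cfsg.Agent.Spor Module

set_option synthInstance.maxSize 4000 in
theorem arith : ∀ a ∈ kacL, a.2 = (248, 248) → ∀ b ∈ kacL, b.2 = (a.1, 248) → ∀ c ∈ kacL, c.2 = (a.1, 248) →
    ∀ d ∈ kacL, d.2 = (b.1, a.1) → 64 ∣ 248 + 19 * a.1 + 4 * b.1 + 24 * c.1 + 16 * d.1 →
    128 ∣ 248 + 35 * a.1 + 20 * b.1 + 56 * c.1 + 16 * d.1 →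
    248 + 35 * a.1 + 20 * b.1 + 56 * c.1 + 16 * d.1 ≤ 8 * (248 + 15 * a.1) →
    a.1 = -8 ∧ b.1 = 8 ∧ c.1 = 0 ∧ d.1 = 0 := by
  decide +kernel

theorem false_gen {μ : ℕ → ℕ → ℕ} {ok : ℕ → Bool} {e : ℕ} (M : Mdl μ ok e St) {labs r1 : List (ℕ × ℕ × ℕ)}
    {r2 r4 : List (ℕ × ℕ)} {l3 l12 : List (List ℕ × List (ℕ × ℕ))} {reps lE lC lS T1 T2 T3 T4 : List ℕ}
    {y c x s N1 N2 N3 N4 cs1 cs2 cs3 cs4 : ℕ} (hlab : labsOK μ ok e reps labs = true)
    (dimE : dimOK μ ok e labs 5 lE [1, 15, 0, 0, 0] [] = true)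
    (dimC : dimOK μ ok e labs 5 lC [1, 19, 4, 24, 16] [] = true)
    (dimS : dimOK μ ok e labs 5 lS [1, 35, 20, 56, 16] [] = true)
    (dimF : ∀ p ∈ l3 ++ l12, p.1.length = 4 ∧ dimOK μ ok e labs 5 p.1 [1, 7] [0, 8] = true)
    (cert1 : certOK μ ok e (pows μ e c 8) T1 (span μ e lS) N1 [([e], [(e, e, cs1)]), (pows μ e y 5, r1)] = true)
    (cert2 : certOK μ ok e (pows μ e y 5) T2 ((pows μ e y 5).flatMap fun a => (span μ e lE).map (μ a)) N2
      [([e], [(e, e, cs2)]), (span μ e lC, r2.map fun r => (r.1, x, r.2))] = true)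
    (cert3 : certOK μ ok e [] T3 (pows μ e y 5) N3 (((e + 1) :: span μ e lE, [(e, e, cs3)]) ::
      l3.map fun p => (span μ e p.1, p.2.map fun r => (r.1, e, r.2))) = true)
    (cert4 : certOK μ ok e [] T4 [] N4 (((e + 1) :: span μ e lE, [(e, e, cs4)]) ::
      (pows μ e y 5, r4.map fun r => (r.1, e, r.2)) ::
      l12.map fun p => (span μ e p.1, p.2.map fun r => (r.1, e, r.2))) = true)
    (c1 : ∀ t ∈ [(1, 0, 0), (2, 1, 0), (3, 1, 0), (4, 2, 1)], kacOK μ ok e reps labs 5 s t.1 t.2.1 t.2.2 = true)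
    (c2 : ordOK μ ok e 5 y s = true ∧ pw μ e y 5 = e ∧ pw μ e c 8 = e ∧ c ∈ lS ∧ y % 2 = 0 ∧ reps.getD 0 e = e)
    (c3 : lE.length = 4 ∧ lC.length = 6 ∧ lS.length = 7 ∧ l3.length = 3 ∧ l12.length = 12)
    (c4 : spanF μ e lS (fun S => allL lE fun a => anyL S (Nat.beq a)) = true ∧
      ∀ r ∈ r1, ok r.2.1 = true ∧ normOK μ e lE r.2.1 = true) : False := by
  have okd : ∀ {L ps ns}, dimOK μ ok e labs 5 L ps ns = true → ∀ a ∈ L, M.Ok a := fun h =>
    oks M ((band_iff _ _).1 h).1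
  have sp : ∀ {L ps ns}, dimOK μ ok e labs 5 L ps ns = true → ∀ k ∈ span μ e L, M.Ok k ∧
      ∀ w ∈ M.fix rho L, M.op rho k w = w := fun h => (Mdl.span_spec (okd h)).1
  have dE := M.dim_of (ρ := rho) two_ne hlab dimE
  have dC := M.dim_of (ρ := rho) two_ne hlab dimC
  have dS := M.dim_of (ρ := rho) two_ne hlab dimS
  have dF := fun p hp => M.dim_of (ρ := rho) two_ne hlab (dimF p hp).2
  have k := fun t ht => M.kac_of hlab (c1 t ht)
  have hSE : M.fix rho lS ≤ M.fix rho lE := fun v hv => Mdl.mem_fix.2 fun a ha => by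
    have := c4.1
    simp only [spanF_eq, allL_iff, anyL_iff, nbeq_iff, exists_eq_right'] at this
    exact (sp dimS a (this a ha)).2 v hv
  have h1 := Submodule.finrank_mono hSE
  simp only [List.forall_mem_cons, c2.2.2.2.2.2, M.tr_e, Finset.sum_range_succ, Finset.sum_range_zero,
    List.getD_cons_zero, List.getD_cons_succ, List.getD_nil, c3.1, c3.2.1, c3.2.2.1] at k dE dC dS dF
  obtain ⟨k1, k2, k3, k4, -⟩ := k
  obtain ⟨t1, t2, t3, t4⟩ := arith _ k1 rfl _ k2 rfl _ k3 rfl _ k4 rfl (by have := dC.2; omega)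
    (by have := dS.2; omega) (by have := dS.2; have := dE.2; omega)
  have fE : finrank Chev.Kac.K3 (M.fix rho lE) = 8 := by have := dE.2; omega
  have fC : finrank Chev.Kac.K3 (M.fix rho lC) = 2 := by have := dC.2; omega
  have fS : finrank Chev.Kac.K3 (M.fix rho lS) = 1 := by have := dS.2; omega
  have fF : ∀ p ∈ l3 ++ l12, (∀ v, M.nrm rho (span μ e p.1) v ∈ M.fix rho p.1) ∧
      finrank Chev.Kac.K3 (M.fix rho p.1) = 16 := fun p hp => ⟨(dF p hp).1, by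
    have := (dF p hp).2
    rw [(dimF p hp).1] at this
    omega⟩
  obtain ⟨oy, k5, k6⟩ := M.ord_of c2.1
  have k7 := kac5 k5 k6
  rw [← Mdl.op_even c2.2.2.2.2.1] at k7
  have oc := okd dimS c c2.2.2.2.1
  have py := fun a ha => (Mdl.ok_pows (ρ := rho) oy 5 a ha).1
  have e1 : ∀ v, M.nrm rho [e] v = v := fun v => by simp [Mdl.nrm, Mdl.op_e]
  have e2 : ∀ a ∈ (e + 1) :: span μ e lE, M.Ok a := List.forall_mem_cons.2
    ⟨(M.half (by have := M.par_e; omega)).1 M.ok_e, fun a ha => (sp dimE a ha).1⟩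
  have e3 : ∀ v, (1 : End Chev.Kac.K3 LL) (M.nrm rho ((e + 1) :: span μ e lE) v) = 0 → v ∈ M.fix rho lE := fun v hv => by
    rw [End.one_apply, Mdl.nrm, List.map_cons, List.sum_cons, Mdl.op_half (b := e) (by have := M.par_e; omega),
      Mdl.neg_pow_congr (b := 1) (by omega), Mdl.op_e, pow_one, neg_one_smul, LinearMap.add_apply,
      LinearMap.neg_apply, End.one_apply, neg_add_eq_zero] at hv
    exact hv ▸ dE.1 v
  have e4 : ∀ {l : List (List ℕ × List (ℕ × ℕ))} {v : LL}, (∀ p ∈ l, p ∈ l3 ++ l12) →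
      (∀ p ∈ l, M.nrm rho (span μ e p.1) v = 0) →
      ∀ b ∈ l.map fun p => (span μ e p.1, p.2.map fun r => (r.1, e, r.2)),
        (∀ a ∈ b.1, M.Ok a) ∧ ∀ r ∈ b.2, M.nrm rho b.1 (M.op rho r.2.1 v) = 0 := fun a b => by
    simp only [List.forall_mem_map, Mdl.op_e, End.one_apply]
    exact fun p hp => ⟨fun k hk => (sp (dimF p (a p hp)).2 k hk).1, fun _ _ => b p hp⟩
  have u1 := finrank_le_list l3 (fun p => M.nrm rho (span μ e p.1)) (fun p => M.fix rho p.1)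
    (fun p hp => fF p (by simp [hp])) (U := ⊤ ⊓ fx (M.op rho y)) (U' := M.fix rho lE ⊓ fx (M.op rho y))
    fun v hv hz => ⟨e3 v (Mdl.cert_of cert3 (by simp) (Mdl.pows_fix oy 5 hv.2).1 e2
      (e4 (fun p hp => by simp [hp]) hz)), hv.2⟩
  have u2 := finrank_le_list [()] (fun _ => M.nrm rho (span μ e lC) * M.op rho x) (fun _ => M.fix rho lC)
    (fun _ _ => ⟨fun v => dC.1 _, fC⟩) (U := M.fix rho lE ⊓ fx (M.op rho y)) (U' := ⊥) fun v hv hz => by
      have h4 := Mdl.cert_of cert2 (Mdl.pows_absorb (ρ := rho) oy c2.2.1).1 (v := v) (fun a ha => by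
        obtain ⟨b, hb, ha⟩ := List.mem_flatMap.1 ha
        obtain ⟨k, hk, rfl⟩ := List.mem_map.1 ha
        exact ⟨M.ok_mu (py b hb) (sp dimE k hk).1, by rw [Mdl.op_mu (py b hb) (sp dimE k hk).1, End.mul_apply,
          (sp dimE k hk).2 v hv.1, ((Mdl.pows_fix oy 5 hv.2).1 b hb).2]⟩) (by simpa using M.ok_e) (by
          simp only [List.forall_mem_cons, List.not_mem_nil, false_imp_iff, implies_true, List.forall_mem_map]
          exact ⟨⟨fun a ha => (sp dimC a ha).1, fun r _ => hz () (by simp)⟩, trivial⟩)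
      rw [e1, (Mdl.pows_fix oy 5 hv.2).2] at h4
      exact smul_eq_zero3 h4 (by norm_num)
  have u3 := finrank_le_ker (U := ⊤) (W := ⊤ ⊓ fx (M.op rho y)) (M.nrm rho (pows μ e y 5))
    fun v _ => ⟨trivial, (Mdl.pows_absorb oy c2.2.1).2 v⟩
  have u4 := finrank_le_list l12 (fun p => M.nrm rho (span μ e p.1)) (fun p => M.fix rho p.1)
    (fun p hp => fF p (by simp [hp])) (U := ⊤ ⊓ LinearMap.ker (M.nrm rho (pows μ e y 5)))
    (U' := M.fix rho lE ⊓ LinearMap.ker (M.nrm rho (pows μ e y 5)))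
    fun v hv hz => ⟨e3 v (Mdl.cert_of cert4 (by simp) (by simp) e2 (List.forall_mem_cons.2
      ⟨⟨py, List.forall_mem_map.2 fun _ _ => by rw [Mdl.op_e]; exact hv.2⟩, e4 (fun p hp => by simp [hp]) hz⟩)), hv.2⟩
  have u5 := Submodule.finrank_lt_finrank_of_lt (s := M.fix rho lE ⊓ LinearMap.ker (M.nrm rho (pows μ e y 5)))
    (t := M.fix rho lE) (inf_lt_left.2 fun h => by
      have : M.fix rho lS = ⊥ := eq_bot_iff.2 fun v hv => by
        have h4 := Mdl.cert_of cert1 (Mdl.pows_absorb (ρ := rho) oc c2.2.2.1).1 (v := v)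
          (fun a ha => ⟨(sp dimS a ha).1, (sp dimS a ha).2 v hv⟩) (by simpa using M.ok_e) (by
            simp only [List.forall_mem_cons, List.not_mem_nil, false_imp_iff, implies_true]
            exact ⟨⟨py, fun r hr => h (Mdl.norm_of (okd dimE) (M.ok_ok (c4.2 r hr).1) (c4.2 r hr).2 v (hSE hv))⟩,
              trivial⟩)
        rw [e1, (Mdl.pows_fix oc 8 (mem_fx.2 (Mdl.mem_fix.1 hv c c2.2.2.2.1))).2] at h4
        exact smul_eq_zero3 h4 (by norm_num)
      rw [this, finrank_bot] at fS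
      exact zero_ne_one fS)
  simp only [fd, finrank_bot, finrank_top, finrank_LL, List.length_singleton, List.mem_cons, List.not_mem_nil,
    or_false, c3.2.2.2.1, c3.2.2.2.2] at u1 u2 u3 u4 k7
  omega

end Cfsg.Agent.E83.U4
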